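import Groth.Agent.EtAcyc.K153.TreeDef
import Groth.Agent.Pi1A.FGLimit
import Mathlib.AlgebraicGeometry.Noetherian
import Mathlib.FieldTheory.IsAlgClosed.AlgebraicClosure

/-!
# Tree certificates: from the algebraic closure of the function field to a dominant base change of finite type
-/

set_option autoImplicit false
universe u

open CategoryTheory CategoryTheory.Limits AlgebraicGeometry Opposite

namespace K843.TreeEnd

open K153.TreeDef Groth.Agent.Pi1A.FGLimit

/-- The statement of TREE-SPREAD. -/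
def Spread : Prop :=
  ∀ {I : Type u} [SmallCategory I] [IsCofiltered I] (D : I ⥤ Scheme.{u}) (c : Cone D)
    [∀ (i j : I) (f : i ⟶ j), IsAffineHom (D.map f)] [∀ i, IsAffine (D.obj i)] [∀ i, IsNoetherian (D.obj i)]
    [IsAffine c.pt] [IsNoetherian c.pt] (_ : IsLimit c) {X : Scheme.{u}} {f : X ⟶ c.pt} {V : X.Opens}
    (_ : Tree c.pt X f V) (i₀ : I) (X₀ : Scheme.{u}) (p₀ : X₀ ⟶ D.obj i₀) [LocallyOfFinitePresentation p₀]
    [QuasiCompact p₀] [QuasiSeparated p₀] (a : X ⟶ X₀) (_ : IsPullback a f p₀ (c.π.app i₀)) (V₀ : X₀.Opens)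
    (_ : a ⁻¹ᵁ V₀ = V),
    ∃ (i₁ : I) (φ : i₁ ⟶ i₀), ∀ (i : I) (ψ : i ⟶ i₁) (Xi : Scheme.{u}) (ai : Xi ⟶ X₀) (pi : Xi ⟶ D.obj i),
      IsPullback ai pi p₀ (D.map (ψ ≫ φ)) → Tree (D.obj i) Xi pi (ai ⁻¹ᵁ V₀)

/-- TREE-END. -/
theorem exists_tree_of (hspread : Spread.{u})
    (hK : ∀ (K : Type u) [Field K] [IsAlgClosed K] (X : Scheme.{u})
      (p : X ⟶ Spec (CommRingCat.of K)) [LocallyOfFiniteType p] [QuasiCompact p] (V : X.Opens),
      Tree (Spec (CommRingCat.of K)) X p V)
    {S X : Scheme.{u}} [IsIntegral S] [IsNoetherian S] (f : X ⟶ S) [LocallyOfFiniteType f] [QuasiCompact f]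
    [QuasiSeparated f] (V : X.Opens) :
    ∃ (S₁ : Scheme.{u}) (_ : IsIntegral S₁) (_ : IsNoetherian S₁) (g : S₁ ⟶ S), IsDominant g ∧
      LocallyOfFiniteType g ∧ QuasiCompact g ∧
      Tree S₁ (pullback f g) (pullback.snd f g) (pullback.fst f g ⁻¹ᵁ V) := by
  obtain ⟨_, ⟨W, hW, rfl⟩, hmem, -⟩ := S.isBasis_affineOpens.exists_subset_of_mem_open
    (Set.mem_univ (genericPoint S)) isOpen_univ
  have hWne : Nonempty W := ⟨⟨genericPoint S, hmem⟩⟩
  let A : Type u := Γ(S, W)
  have hA1 : IsDomain A := inferInstance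
  have hA2 : IsNoetherianRing A := IsLocallyNoetherian.component_noetherian ⟨W, hW⟩
  let K : Type u := AlgebraicClosure (FractionRing A)
  have hinj : Function.Injective (algebraMap A K) := by
    rw [IsScalarTower.algebraMap_eq A (FractionRing A) K]
    exact (algebraMap (FractionRing A) K).injective.comp (IsFractionRing.injective A (FractionRing A))
  let s : Spec (CommRingCat.of A) ⟶ S := hW.fromSpec
  let g : ∀ i : (Finset K)ᵒᵖ, (specDiag A K).obj i ⟶ S := fun i => (specBase A K).app i ≫ s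
  have hg : ∀ {i j : (Finset K)ᵒᵖ} (h : i ⟶ j), (specDiag A K).map h ≫ g j = g i := fun {i j} h => by
    rw [← Category.assoc]
    exact congrArg (· ≫ s) (map_comp_t (specDiag A K) (specBase A K) h)
  have hft : ∀ i : (Finset K)ᵒᵖ, Algebra.FiniteType A (Algebra.adjoin A (i.unop : Set K)) := fun i =>
    (Subalgebra.fg_iff_finiteType _).1 ⟨i.unop, rfl⟩
  have hno : ∀ i : (Finset K)ᵒᵖ, IsNoetherianRing (Algebra.adjoin A (i.unop : Set K)) := fun i =>
    Algebra.FiniteType.isNoetherianRing A _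
  have haff : ∀ i, IsAffine ((specDiag A K).obj i) := fun i =>
    inferInstanceAs (IsAffine (Spec (CommRingCat.of (Algebra.adjoin A (i.unop : Set K)))))
  have hnoe : ∀ i, IsNoetherian ((specDiag A K).obj i) := fun i =>
    inferInstanceAs (IsNoetherian (Spec (CommRingCat.of (Algebra.adjoin A (i.unop : Set K)))))
  have hint : ∀ i, IsIntegral ((specDiag A K).obj i) := fun i =>
    inferInstanceAs (IsIntegral (Spec (CommRingCat.of (Algebra.adjoin A (i.unop : Set K)))))
  have hptA : IsAffine (specCone A K).pt := inferInstanceAs (IsAffine (Spec (CommRingCat.of K)))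
  have hptN : IsNoetherian (specCone A K).pt := inferInstanceAs (IsNoetherian (Spec (CommRingCat.of K)))
  have hlft : ∀ i, LocallyOfFiniteType (g i) := fun i => by
    have h1 : LocallyOfFiniteType ((specBase A K).app i) := by
      change LocallyOfFiniteType (Spec.map (CommRingCat.ofHom (algebraMap A (Algebra.adjoin A (i.unop : Set K)))))
      rw [HasRingHomProperty.Spec_iff (P := @LocallyOfFiniteType)]
      exact (RingHom.finiteType_algebraMap (A := A) (B := Algebra.adjoin A (i.unop : Set K))).2 (hft i)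
    infer_instance
  have hdom : ∀ i, IsDominant (g i) := fun i => by
    have h1 : IsDominant ((specBase A K).app i) := by
      change IsDominant (Spec.map (CommRingCat.ofHom (algebraMap A (Algebra.adjoin A (i.unop : Set K)))))
      refine ⟨?_⟩
      refine (PrimeSpectrum.denseRange_comap_iff_ker_le_nilRadical
        (algebraMap A (Algebra.adjoin A (i.unop : Set K)))).2 ?_
      have h0 : Function.Injective (algebraMap A (Algebra.adjoin A (i.unop : Set K))) := by
        intro x y hxy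
        exact hinj (congrArg Subtype.val hxy)
      rw [(RingHom.injective_iff_ker_eq_bot _).1 h0]
      exact bot_le
    have h2 : IsDominant s := ⟨(s.isOpenEmbedding.isOpen_range).dense ⟨_, ⟨genericPoint _, rfl⟩⟩⟩
    infer_instance
  let i₀ : (Finset K)ᵒᵖ := op ∅
  let X₀ : Scheme.{u} := pullback f (g i₀)
  let p₀ : X₀ ⟶ (specDiag A K).obj i₀ := pullback.snd f (g i₀)
  have hp₀ : LocallyOfFinitePresentation p₀ := LocallyOfFinitePresentation.iff_locallyOfFiniteType.2 inferInstance
  let V₀ : X₀.Opens := pullback.fst f (g i₀) ⁻¹ᵁ V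
  let XK : Scheme.{u} := pullback p₀ ((specCone A K).π.app i₀)
  let pK : XK ⟶ Spec (CommRingCat.of K) := pullback.snd p₀ ((specCone A K).π.app i₀)
  let aK : XK ⟶ X₀ := pullback.fst p₀ ((specCone A K).π.app i₀)
  have hsq : IsPullback aK pK p₀ ((specCone A K).π.app i₀) := IsPullback.of_hasPullback _ _
  have hl : LocallyOfFiniteType pK := MorphismProperty.of_isPullback (P := @LocallyOfFiniteType) hsq inferInstance
  have hq : QuasiCompact pK := MorphismProperty.of_isPullback (P := @QuasiCompact) hsq inferInstance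
  obtain ⟨i₁, φ, h⟩ := hspread (specDiag A K) (specCone A K) (specIsLimit A K) (hK K XK pK (aK ⁻¹ᵁ V₀)) i₀ X₀ p₀ aK
    hsq V₀ rfl
  let a₁ : pullback f (g i₁) ⟶ X₀ := pullback.lift (pullback.fst _ _) (pullback.snd _ _ ≫ (specDiag A K).map φ) (by
    rw [Category.assoc, hg, pullback.condition])
  have ha₁ : a₁ ≫ pullback.fst f (g i₀) = pullback.fst f (g i₁) := pullback.lift_fst _ _ _
  have ha₂ : a₁ ≫ p₀ = pullback.snd f (g i₁) ≫ (specDiag A K).map φ := pullback.lift_snd _ _ _
  have hsq₁ : IsPullback a₁ (pullback.snd f (g i₁)) p₀ ((specDiag A K).map (𝟙 i₁ ≫ φ)) := by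
    rw [Category.id_comp]
    refine IsPullback.of_right (h₁₂ := pullback.fst f (g i₀)) (h₂₂ := g i₀) (v₁₃ := f) ?_ ha₂
      (IsPullback.of_hasPullback _ _)
    rw [ha₁, hg]
    exact IsPullback.of_hasPullback _ _
  have h1 := h i₁ (𝟙 i₁) _ a₁ _ hsq₁
  refine ⟨(specDiag A K).obj i₁, hint i₁, hnoe i₁, g i₁, hdom i₁, hlft i₁, inferInstance, ?_⟩
  have h2 : a₁ ⁻¹ᵁ V₀ = pullback.fst f (g i₁) ⁻¹ᵁ V := by
    rw [← ha₁]
    rfl
  rw [← h2]
  exact h1

end K843.TreeEnd
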